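import Cfsg.Agent.AutLf48.Relator.Steps

/-!
Generated: both halves of the long word, followed coset by coset in any lift.
-/

set_option autoImplicit false
set_option maxRecDepth 8000
set_option linter.unusedSectionVars false

namespace CfsgLib.AutLf48.Relator

open CfsgLib.CosetEnum CfsgLib.CosetEnum.Fi24

variable {P : Type*} [Group P] {v : ℕ → P} {π : P →* Cfsg.Spor.Fi24} (hL : Lift v π)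
include hL

omit hL in
theorem vright0 : SameV v ([] ++ [11]) [11] :=
  stepBaseV (done := []) (by decide +kernel)

theorem vright1 : SameV v ([] ++ gW) [11, 0, 1, 2, 3, 8, 7, 3, 9, 6, 5, 4, 3, 10, 11] :=
  hL.stepK (done := [0, 1, 2, 3, 8, 7, 3, 9, 6, 5, 4, 3, 10, 11]) (hh := [0, 1, 2, 3, 8, 7, 3, 9, 6, 5, 4, 3, 10]) (m := []) (u := [10, 0]) (u2 := [])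
    (rep2 := gW)
    ((vright0).pre [0, 1, 2, 3, 8, 7, 3, 9, 6, 5, 4, 3, 10]) (by decide +kernel) (by decide +kernel) hL.id3

theorem vright2 : SameV v ([0, 1] ++ gW) [11, 0, 1, 2, 3, 8, 7, 3, 9, 6, 5, 4, 3, 10, 11, 0, 1, 2, 3, 8, 7, 3, 9, 6, 5, 4, 3, 10, 11] :=
  hL.stepG (done := [0, 1, 2, 3, 8, 7, 3, 9, 6, 5, 4, 3, 10, 11, 0, 1, 2, 3, 8, 7, 3, 9, 6, 5, 4, 3, 10, 11]) (hh := [0, 1, 2, 3, 8, 7, 3, 9, 6, 5, 4, 3, 10]) (m := []) (u := [0, 1]) (u2 := [0, 1])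
    (rep2 := gW)
    ((vright1 hL).pre [0, 1, 2, 3, 8, 7, 3, 9, 6, 5, 4, 3, 10]) (by decide +kernel) (by decide +kernel) hL.id5

theorem vright3 : SameV v ([1, 2, 0, 1] ++ gW) [11, 0, 1, 2, 3, 8, 7, 3, 9, 6, 5, 4, 3, 10, 11, 0, 1, 2, 3, 8, 7, 3, 9, 6, 5, 4, 3, 10, 11, 0, 1, 2, 3, 8, 7, 3, 9, 6, 5, 4, 3, 10, 11] :=
  hL.stepG (done := [0, 1, 2, 3, 8, 7, 3, 9, 6, 5, 4, 3, 10, 11, 0, 1, 2, 3, 8, 7, 3, 9, 6, 5, 4, 3, 10, 11, 0, 1, 2, 3, 8, 7, 3, 9, 6, 5, 4, 3, 10, 11]) (hh := [0, 1, 2, 3, 8, 7, 3, 9, 6, 5, 4, 3, 10, 0, 1]) (m := [1, 2]) (u := [0, 1]) (u2 := [0, 1])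
    (rep2 := gW)
    ((vright2 hL).pre [0, 1, 2, 3, 8, 7, 3, 9, 6, 5, 4, 3, 10]) (by decide +kernel) (by decide +kernel) hL.id5

theorem vright4 : SameV v ([9, 8, 3, 7, 6, 5, 4, 3, 2, 1, 0, 10] ++ [11]) [11, 0, 1, 2, 3, 8, 7, 3, 9, 6, 5, 4, 3, 10, 11, 0, 1, 2, 3, 8, 7, 3, 9, 6, 5, 4, 3, 10, 11, 0, 1, 2, 3, 8, 7, 3, 9, 6, 5, 4, 3, 10, 11, 0, 1, 2, 3, 8, 7, 3, 9, 6, 5, 4, 3, 10, 11] :=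
  hL.stepG (done := [0, 1, 2, 3, 8, 7, 3, 9, 6, 5, 4, 3, 10, 11, 0, 1, 2, 3, 8, 7, 3, 9, 6, 5, 4, 3, 10, 11, 0, 1, 2, 3, 8, 7, 3, 9, 6, 5, 4, 3, 10, 11, 0, 1, 2, 3, 8, 7, 3, 9, 6, 5, 4, 3, 10, 11]) (hh := [0, 1, 2, 3, 8, 7, 3, 9, 6, 5, 4, 3, 10, 1, 2, 0, 1]) (m := [9, 8, 3, 7, 6, 5, 4, 3, 2, 1]) (u := []) (u2 := [0, 10])
    (rep2 := [11])
    ((vright3 hL).pre [0, 1, 2, 3, 8, 7, 3, 9, 6, 5, 4, 3, 10]) (by decide +kernel) (by decide +kernel) hL.id4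

theorem vright5 : SameV v ([6, 5, 3, 4, 2, 3, 7, 8, 1, 2, 3, 7, 4, 3, 2, 1] ++ gW) [11, 0, 1, 2, 3, 8, 7, 3, 9, 6, 5, 4, 3, 10, 11, 0, 1, 2, 3, 8, 7, 3, 9, 6, 5, 4, 3, 10, 11, 0, 1, 2, 3, 8, 7, 3, 9, 6, 5, 4, 3, 10, 11, 0, 1, 2, 3, 8, 7, 3, 9, 6, 5, 4, 3, 10, 11, 0, 1, 2, 3, 8, 7, 3, 9, 6, 5, 4, 3, 10, 11] :=
  hL.stepK (done := [0, 1, 2, 3, 8, 7, 3, 9, 6, 5, 4, 3, 10, 11, 0, 1, 2, 3, 8, 7, 3, 9, 6, 5, 4, 3, 10, 11, 0, 1, 2, 3, 8, 7, 3, 9, 6, 5, 4, 3, 10, 11, 0, 1, 2, 3, 8, 7, 3, 9, 6, 5, 4, 3, 10, 11, 0, 1, 2, 3, 8, 7, 3, 9, 6, 5, 4, 3, 10, 11]) (hh := [0, 1, 2, 3, 8, 7, 3, 9, 6, 5, 4, 3, 10, 9, 8, 3, 7, 6, 5, 4, 3, 2, 1, 0, 10]) (m := [6, 5, 3, 4, 2, 3, 7, 8, 1, 2, 3, 7, 4, 3,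 2, 1]) (u := [10, 0]) (u2 := [])
    (rep2 := gW)
    ((vright4 hL).pre [0, 1, 2, 3, 8, 7, 3, 9, 6, 5, 4, 3, 10]) (by decide +kernel) (by decide +kernel) hL.id3

theorem vright6 : SameV v ([9, 3, 7, 5, 2, 3, 4, 1, 2, 3, 7, 8, 2, 3, 4, 1, 2, 3, 7, 6, 5, 4, 3, 2, 1, 0, 10] ++ [11]) [11, 0, 1, 2, 3, 8, 7, 3, 9, 6, 5, 4, 3, 10, 11, 0, 1, 2, 3, 8, 7, 3, 9, 6, 5, 4, 3, 10, 11, 0, 1, 2, 3, 8, 7, 3, 9, 6, 5, 4, 3, 10, 11, 0, 1, 2, 3, 8, 7, 3, 9, 6, 5, 4, 3, 10, 11, 0, 1, 2, 3, 8, 7, 3, 9, 6, 5, 4, 3, 10, 11, 0, 1, 2, 3, 8, 7, 3, 9, 6, 5, 4, 3, 10, 11] :=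
  hL.stepG (done := [0, 1, 2, 3, 8, 7, 3, 9, 6, 5, 4, 3, 10, 11, 0, 1, 2, 3, 8, 7, 3, 9, 6, 5, 4, 3, 10, 11, 0, 1, 2, 3, 8, 7, 3, 9, 6, 5, 4, 3, 10, 11, 0, 1, 2, 3, 8, 7, 3, 9, 6, 5, 4, 3, 10, 11, 0, 1, 2, 3, 8, 7, 3, 9, 6, 5, 4, 3, 10, 11, 0, 1, 2, 3, 8, 7, 3, 9, 6, 5, 4, 3, 10, 11]) (hh := [0, 1, 2, 3, 8, 7, 3, 9, 6, 5, 4, 3, 10, 6, 5, 3, 4, 2, 3, 7, 8, 1, 2, 3, 7, 4, 3, 2, 1]) (m := [9, 3, 7, 5, 2, 3, 4, 1, 2, 3, 7, 8, 2, 3, 4, 1, 2, 3, 7, 6, 5, 4, 3, 2, 1]) (u := []) (u2 := [0, 10])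
    (rep2 := [11])
    ((vright5 hL).pre [0, 1, 2, 3, 8, 7, 3, 9, 6, 5, 4, 3, 10]) (by decide +kernel) (by decide +kernel) hL.id4

theorem vrightEnd : SameV v ([9, 3, 7, 5, 2, 3, 4, 1, 2, 3, 7, 8, 2, 3, 4, 1, 2, 3, 7, 6, 5, 4, 3, 2, 1, 0, 10] ++ [11]) [11, 0, 1, 2, 3, 8, 7, 3, 9, 6, 5, 4, 3, 10, 11, 0, 1, 2, 3, 8, 7, 3, 9, 6, 5, 4, 3, 10, 11, 0, 1, 2, 3, 8, 7, 3, 9, 6, 5, 4, 3, 10, 11, 0, 1, 2, 3, 8, 7, 3, 9, 6, 5, 4, 3, 10, 11, 0, 1, 2, 3, 8, 7, 3, 9, 6, 5, 4, 3, 10, 11, 0, 1, 2, 3, 8, 7, 3, 9, 6, 5, 4, 3, 10, 11] :=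
  (vright6 hL).pre []

omit hL in
theorem vleft0 : SameV v ([] ++ [11]) [11, 10, 3, 4, 5, 6, 9, 3, 7, 8, 3, 2, 1, 0] :=
  stepBaseV (done := [10, 3, 4, 5, 6, 9, 3, 7, 8, 3, 2, 1, 0]) (by decide +kernel)

theorem vleft1 : SameV v ([3, 7, 4, 3, 2, 1] ++ gW) [11, 10, 3, 4, 5, 6, 9, 3, 7, 8, 3, 2, 1, 0, 11, 10, 3, 4, 5, 6, 9, 3, 7, 8, 3, 2, 1, 0] :=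
  hL.stepK (done := [10, 3, 4, 5, 6, 9, 3, 7, 8, 3, 2, 1, 0, 11, 10, 3, 4, 5, 6, 9, 3, 7, 8, 3, 2, 1, 0]) (hh := [10, 3, 4, 5, 6, 9, 3, 7, 8, 3, 2, 1, 0]) (m := [3, 7, 4, 3, 2, 1]) (u := [10, 0]) (u2 := [])
    (rep2 := gW)
    ((vleft0).pre [10, 3, 4, 5, 6, 9, 3, 7, 8, 3, 2, 1, 0]) (by decide +kernel) (by decide +kernel) hL.id3

theorem vleft2 : SameV v ([8, 4, 3, 7, 5, 4, 3, 1, 2, 0, 1] ++ gW) [11, 10, 3, 4, 5, 6, 9, 3, 7, 8, 3, 2, 1, 0, 11, 10, 3, 4, 5, 6, 9, 3, 7, 8, 3, 2, 1, 0, 11, 10, 3, 4, 5, 6, 9, 3, 7, 8, 3, 2, 1, 0] :=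
  hL.stepG (done := [10, 3, 4, 5, 6, 9, 3, 7, 8, 3, 2, 1, 0, 11, 10, 3, 4, 5, 6, 9, 3, 7, 8, 3, 2, 1, 0, 11, 10, 3, 4, 5, 6, 9, 3, 7, 8, 3, 2, 1, 0]) (hh := [10, 3, 4, 5, 6, 9, 3, 7, 8, 3, 2, 1, 0, 3, 7, 4, 3, 2, 1]) (m := [8, 4, 3, 7, 5, 4, 3, 1, 2]) (u := [0, 1]) (u2 := [0, 1])
    (rep2 := gW)
    ((vleft1 hL).pre [10, 3, 4, 5, 6, 9, 3, 7, 8, 3, 2, 1, 0]) (by decide +kernel) (by decide +kernel) hL.id5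

theorem vleft3 : SameV v ([3, 7, 4, 5, 3, 4, 2, 3, 7, 6, 5, 4, 3, 2, 0, 1] ++ gW) [11, 10, 3, 4, 5, 6, 9, 3, 7, 8, 3, 2, 1, 0, 11, 10, 3, 4, 5, 6, 9, 3, 7, 8, 3, 2, 1, 0, 11, 10, 3, 4, 5, 6, 9, 3, 7, 8, 3, 2, 1, 0, 11, 10, 3, 4, 5, 6, 9, 3, 7, 8, 3, 2, 1, 0] :=
  hL.stepG (done := [10, 3, 4, 5, 6, 9, 3, 7, 8, 3, 2, 1, 0, 11, 10, 3, 4, 5, 6, 9, 3, 7, 8, 3, 2, 1, 0, 11, 10, 3, 4, 5, 6, 9, 3, 7, 8, 3, 2, 1, 0, 11, 10, 3, 4, 5, 6, 9, 3, 7, 8, 3, 2, 1, 0]) (hh := [10, 3, 4, 5, 6, 9, 3, 7, 8, 3, 2, 1, 0, 8, 4, 3, 7, 5, 4, 3, 1, 2, 0, 1]) (m := [3, 7, 4, 5, 3, 4, 2, 3, 7, 6, 5, 4, 3, 2]) (u := [0, 1]) (u2 := [0, 1])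
    (rep2 := gW)
    ((vleft2 hL).pre [10, 3, 4, 5, 6, 9, 3, 7, 8, 3, 2, 1, 0]) (by decide +kernel) (by decide +kernel) hL.id5

theorem vleft4 : SameV v ([4, 5, 6, 9, 3, 7, 8, 7, 4, 5, 3, 4, 1, 2, 3, 7, 6, 5, 4, 3, 2, 1, 0, 10] ++ [11]) [11, 10, 3, 4, 5, 6, 9, 3, 7, 8, 3, 2, 1, 0, 11, 10, 3, 4, 5, 6, 9, 3, 7, 8, 3, 2, 1, 0, 11, 10, 3, 4, 5, 6, 9, 3, 7, 8, 3, 2, 1, 0, 11, 10, 3, 4, 5, 6, 9, 3, 7, 8, 3, 2, 1, 0, 11, 10, 3, 4, 5, 6, 9, 3, 7, 8, 3, 2, 1, 0] :=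
  hL.stepG (done := [10, 3, 4, 5, 6, 9, 3, 7, 8, 3, 2, 1, 0, 11, 10, 3, 4, 5, 6, 9, 3, 7, 8, 3, 2, 1, 0, 11, 10, 3, 4, 5, 6, 9, 3, 7, 8, 3, 2, 1, 0, 11, 10, 3, 4, 5, 6, 9, 3, 7, 8, 3, 2, 1, 0, 11, 10, 3, 4, 5, 6, 9, 3, 7, 8, 3, 2, 1, 0]) (hh := [10, 3, 4, 5, 6, 9, 3, 7, 8, 3, 2, 1, 0, 3, 7, 4, 5, 3, 4, 2, 3, 7, 6, 5, 4, 3, 2, 0, 1]) (m := [4, 5, 6, 9, 3, 7, 8, 7, 4, 5, 3, 4, 1, 2, 3, 7, 6, 5, 4, 3, 2, 1]) (u := []) (u2 := [0, 10])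
    (rep2 := [11])
    ((vleft3 hL).pre [10, 3, 4, 5, 6, 9, 3, 7, 8, 3, 2, 1, 0]) (by decide +kernel) (by decide +kernel) hL.id4

theorem vleft5 : SameV v ([7, 3, 4, 5, 6, 9, 7, 3, 4, 2, 3, 7, 8, 7, 4, 5, 2, 3, 4, 1, 2, 3, 7, 6, 5, 4, 3, 2, 1] ++ gW) [11, 10, 3, 4, 5, 6, 9, 3, 7, 8, 3, 2, 1, 0, 11, 10, 3, 4, 5, 6, 9, 3, 7, 8, 3, 2, 1, 0, 11, 10, 3, 4, 5, 6, 9, 3, 7, 8, 3, 2, 1, 0, 11, 10, 3, 4, 5, 6, 9, 3, 7, 8, 3, 2, 1, 0, 11, 10, 3, 4, 5, 6, 9, 3, 7, 8, 3, 2, 1, 0, 11, 10, 3, 4, 5, 6, 9, 3, 7, 8, 3, 2, 1, 0] :=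
  hL.stepK (done := [10, 3, 4, 5, 6, 9, 3, 7, 8, 3, 2, 1, 0, 11, 10, 3, 4, 5, 6, 9, 3, 7, 8, 3, 2, 1, 0, 11, 10, 3, 4, 5, 6, 9, 3, 7, 8, 3, 2, 1, 0, 11, 10, 3, 4, 5, 6, 9, 3, 7, 8, 3, 2, 1, 0, 11, 10, 3, 4, 5, 6, 9, 3, 7, 8, 3, 2, 1, 0, 11, 10, 3, 4, 5, 6, 9, 3, 7, 8, 3, 2, 1, 0]) (hh := [10, 3, 4, 5, 6, 9, 3, 7, 8, 3, 2, 1, 0, 4, 5, 6, 9, 3, 7, 8, 7, 4, 5, 3, 4, 1, 2, 3, 7, 6, 5, 4, 3, 2, 1, 0, 10]) (m := [7, 3, 4, 5, 6, 9, 7, 3, 4, 2, 3, 7, 8, 7, 4, 5, 2, 3, 4, 1, 2, 3, 7, 6, 5, 4, 3, 2, 1]) (u := [10, 0]) (u2 := [])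
    (rep2 := gW)
    ((vleft4 hL).pre [10, 3, 4, 5, 6, 9, 3, 7, 8, 3, 2, 1, 0]) (by decide +kernel) (by decide +kernel) hL.id3

theorem vleft6 : SameV v ([2, 3, 4, 5, 6, 9, 4, 2, 3, 7, 4, 5, 2, 3, 4, 1, 2, 3, 7, 8, 5, 3, 4, 1, 2, 3, 7, 6, 5, 4, 3, 2, 1, 0, 10] ++ [11]) [11, 10, 3, 4, 5, 6, 9, 3, 7, 8, 3, 2, 1, 0, 11, 10, 3, 4, 5, 6, 9, 3, 7, 8, 3, 2, 1, 0, 11, 10, 3, 4, 5, 6, 9, 3, 7, 8, 3, 2, 1, 0, 11, 10, 3, 4, 5, 6, 9, 3, 7, 8, 3, 2, 1, 0, 11, 10, 3, 4, 5, 6, 9, 3, 7, 8, 3, 2, 1, 0, 11, 10, 3, 4, 5, 6, 9, 3, 7, 8, 3, 2, 1, 0, 11, 10, 3, 4, 5, 6, 9, 3, 7, 8, 3, 2, 1, 0] :=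
  hL.stepG (done := [10, 3, 4, 5, 6, 9, 3, 7, 8, 3, 2, 1, 0, 11, 10, 3, 4, 5, 6, 9, 3, 7, 8, 3, 2, 1, 0, 11, 10, 3, 4, 5, 6, 9, 3, 7, 8, 3, 2, 1, 0, 11, 10, 3, 4, 5, 6, 9, 3, 7, 8, 3, 2, 1, 0, 11, 10, 3, 4, 5, 6, 9, 3, 7, 8, 3, 2, 1, 0, 11, 10, 3, 4, 5, 6, 9, 3, 7, 8, 3, 2, 1, 0, 11, 10, 3, 4, 5, 6, 9, 3, 7, 8, 3, 2, 1, 0]) (hh := [10, 3, 4, 5, 6, 9, 3, 7, 8, 3, 2, 1, 0, 7, 3, 4, 5, 6, 9, 7, 3, 4, 2, 3, 7, 8, 7, 4, 5, 2, 3, 4, 1, 2, 3, 7, 6, 5, 4, 3, 2, 1]) (m := [2, 3, 4, 5, 6, 9, 4, 2, 3, 7, 4, 5, 2, 3, 4, 1, 2, 3, 7, 8, 5, 3, 4, 1, 2, 3, 7, 6, 5, 4, 3, 2, 1]) (u := []) (u2 := [0, 10])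
    (rep2 := [11])
    ((vleft5 hL).pre [10, 3, 4, 5, 6, 9, 3, 7, 8, 3, 2, 1, 0]) (by decide +kernel) (by decide +kernel) hL.id4

theorem vleft7 : SameV v ([4, 3, 7, 1, 2, 3, 4, 5, 6, 9, 5, 3, 4, 2, 3, 7, 8, 4, 1, 2, 3, 7, 3, 4, 5, 6, 4, 2, 3, 10, 3, 4, 2, 3, 7, 1, 2, 3, 4, 0, 1, 2, 3, 7, 8, 7, 3, 4, 2, 3, 7, 5, 4, 3, 2, 1, 0] ++ [11]) [11, 10, 3, 4, 5, 6, 9, 3, 7, 8, 3, 2, 1, 0, 11, 10, 3, 4, 5, 6, 9, 3, 7, 8, 3, 2, 1, 0, 11, 10, 3, 4, 5, 6, 9, 3, 7, 8, 3, 2, 1, 0, 11, 10, 3, 4, 5, 6, 9, 3, 7, 8, 3, 2, 1, 0, 11, 10, 3, 4, 5, 6, 9, 3, 7, 8, 3, 2, 1, 0, 11, 10, 3, 4, 5, 6, 9, 3, 7, 8, 3, 2, 1, 0, 11, 10, 3, 4, 5, 6, 9, 3, 7, 8, 3, 2, 1, 0, 11, 10, 3, 4, 5, 6, 9, 3, 7, 8, 3, 2, 1,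 0] :=
  hL.stepK (done := [10, 3, 4, 5, 6, 9, 3, 7, 8, 3, 2, 1, 0, 11, 10, 3, 4, 5, 6, 9, 3, 7, 8, 3, 2, 1, 0, 11, 10, 3, 4, 5, 6, 9, 3, 7, 8, 3, 2, 1, 0, 11, 10, 3, 4, 5, 6, 9, 3, 7, 8, 3, 2, 1, 0, 11, 10, 3, 4, 5, 6, 9, 3, 7, 8, 3, 2, 1, 0, 11, 10, 3, 4, 5, 6, 9, 3, 7, 8, 3, 2, 1, 0, 11, 10, 3, 4, 5, 6, 9, 3, 7, 8, 3, 2, 1, 0, 11, 10, 3, 4, 5, 6, 9, 3, 7, 8, 3, 2, 1, 0]) (hh := [10, 3, 4, 5, 6, 9, 3, 7, 8, 3, 2, 1, 0, 2, 3, 4, 5, 6, 9, 4, 2, 3, 7, 4, 5, 2, 3, 4, 1, 2, 3, 7, 8, 5, 3, 4, 1, 2, 3, 7, 6, 5, 4, 3, 2, 1, 0, 10]) (m := [4, 3, 7, 1, 2, 3, 4, 5, 6, 9, 5, 3, 4, 2, 3, 7, 8, 4, 1, 2, 3, 7, 3, 4, 5, 6, 4, 2, 3]) (u := [0, 1, 2, 3, 7, 8, 4, 3, 7, 5, 4, 3, 2, 1, 0]) (u2 := [10,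 3, 4, 2, 3, 7, 1, 2, 3, 4, 0, 1, 2, 3, 7, 8, 7, 3, 4, 2, 3, 7, 5, 4, 3, 2, 1, 0])
    (rep2 := [11])
    ((vleft6 hL).pre [10, 3, 4, 5, 6, 9, 3, 7, 8, 3, 2, 1, 0]) (by decide +kernel) (by decide +kernel) hL.id7

theorem vleft8 : SameV v ([8, 7, 2, 3, 4, 5, 6, 9, 5, 3, 4, 2, 3, 7, 8, 3, 7, 2, 3, 4, 1, 2, 3, 7, 2, 3, 4, 5, 6, 4, 3, 10, 3, 4, 2, 3, 7, 1, 2, 3, 4, 0, 1, 2, 3, 7, 8, 7, 3, 4, 2, 3, 7, 5, 4, 3, 2, 1, 0] ++ [11]) [11, 10, 3, 4, 5, 6, 9, 3, 7, 8, 3, 2, 1, 0, 11, 10, 3, 4, 5, 6, 9, 3, 7, 8, 3, 2, 1, 0, 11, 10, 3, 4, 5, 6, 9, 3, 7, 8, 3, 2, 1, 0, 11, 10, 3, 4, 5, 6, 9, 3, 7, 8, 3, 2, 1, 0, 11, 10, 3, 4, 5, 6, 9, 3, 7, 8, 3, 2, 1, 0, 11, 10, 3, 4, 5, 6, 9, 3, 7, 8, 3, 2, 1,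 0, 11, 10, 3, 4, 5, 6, 9, 3, 7, 8, 3, 2, 1, 0, 11, 10, 3, 4, 5, 6, 9, 3, 7, 8, 3, 2, 1, 0, 11, 10, 3, 4, 5, 6, 9, 3, 7, 8, 3, 2, 1, 0] :=
  hL.stepK (done := [10, 3, 4, 5, 6, 9, 3, 7, 8, 3, 2, 1, 0, 11, 10, 3, 4, 5, 6, 9, 3, 7, 8, 3, 2, 1, 0, 11, 10, 3, 4, 5, 6, 9, 3, 7, 8, 3, 2, 1, 0, 11, 10, 3, 4, 5, 6, 9, 3, 7, 8, 3, 2, 1, 0, 11, 10, 3, 4, 5, 6, 9, 3, 7, 8, 3, 2, 1, 0, 11, 10, 3, 4, 5, 6, 9, 3, 7, 8, 3, 2, 1, 0, 11, 10, 3, 4, 5, 6, 9, 3, 7, 8, 3, 2, 1, 0, 11, 10, 3, 4, 5, 6, 9, 3, 7, 8, 3, 2, 1, 0, 11, 10, 3, 4, 5, 6, 9, 3, 7, 8, 3, 2, 1, 0]) (hh := [10, 3, 4, 5, 6, 9, 3, 7, 8, 3, 2, 1, 0, 4, 3, 7, 1, 2, 3, 4, 5, 6, 9, 5, 3, 4, 2, 3, 7, 8, 4, 1, 2, 3, 7, 3, 4, 5, 6, 4, 2, 3, 10,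 3, 4, 2, 3, 7, 1, 2, 3, 4, 0, 1, 2, 3, 7, 8, 7, 3, 4, 2, 3, 7, 5, 4, 3, 2, 1, 0]) (m := [8, 7, 2, 3, 4, 5, 6, 9, 5, 3, 4, 2, 3, 7, 8, 3, 7, 2, 3, 4, 1, 2, 3, 7, 2, 3, 4, 5, 6, 4, 3]) (u := [0, 1, 2, 3, 7, 8, 4, 3, 7, 5, 4, 3, 2, 1, 0]) (u2 := [10, 3, 4, 2, 3, 7, 1, 2, 3, 4, 0, 1, 2, 3, 7, 8, 7, 3, 4, 2, 3, 7, 5, 4, 3, 2, 1, 0])
    (rep2 := [11])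
    ((vleft7 hL).pre [10, 3, 4, 5, 6, 9, 3, 7, 8, 3, 2, 1, 0]) (by decide +kernel) (by decide +kernel) hL.id7

theorem vleft9 : SameV v ([3, 7, 1, 2, 3, 4, 5, 6, 9, 4, 3, 7, 8, 4, 5, 2, 3, 4, 1, 2, 3, 7, 1, 2, 3, 4, 5, 6, 4, 2, 3, 10, 3, 4, 2, 3, 7, 1, 2, 3, 4, 0, 1, 2, 3, 7, 8, 7, 3, 4, 2, 3, 7, 5, 4, 3, 2, 1, 0] ++ [11]) [11, 10, 3, 4, 5, 6, 9, 3, 7, 8, 3, 2, 1, 0, 11, 10, 3, 4, 5, 6, 9, 3, 7, 8, 3, 2, 1, 0, 11, 10, 3, 4, 5, 6, 9, 3, 7, 8, 3, 2, 1, 0, 11, 10, 3, 4, 5, 6, 9, 3, 7, 8, 3, 2, 1, 0, 11, 10, 3, 4, 5, 6, 9, 3, 7, 8, 3, 2, 1, 0, 11, 10, 3, 4, 5, 6, 9, 3, 7, 8, 3, 2, 1, 0, 11, 10, 3, 4, 5, 6, 9, 3, 7, 8, 3, 2, 1, 0, 11, 10, 3, 4, 5, 6, 9, 3, 7, 8, 3, 2, 1, 0, 11, 10, 3,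 4, 5, 6, 9, 3, 7, 8, 3, 2, 1, 0, 11, 10, 3, 4, 5, 6, 9, 3, 7, 8, 3, 2, 1, 0] :=
  hL.stepK (done := [10, 3, 4, 5, 6, 9, 3, 7, 8, 3, 2, 1, 0, 11, 10, 3, 4, 5, 6, 9, 3, 7, 8, 3, 2, 1, 0, 11, 10, 3, 4, 5, 6, 9, 3, 7, 8, 3, 2, 1, 0, 11, 10, 3, 4, 5, 6, 9, 3, 7, 8, 3, 2, 1, 0, 11, 10, 3, 4, 5, 6, 9, 3, 7, 8, 3, 2, 1, 0, 11, 10, 3, 4, 5, 6, 9, 3, 7, 8, 3, 2, 1, 0, 11, 10, 3, 4, 5, 6, 9, 3, 7, 8, 3, 2, 1, 0, 11, 10, 3, 4, 5, 6, 9, 3, 7, 8, 3, 2, 1, 0, 11, 10, 3, 4, 5, 6, 9, 3, 7, 8, 3, 2, 1, 0, 11, 10, 3, 4, 5, 6, 9, 3, 7, 8, 3, 2, 1, 0]) (hh := [10, 3, 4, 5, 6, 9, 3, 7, 8, 3, 2, 1, 0, 8, 7, 2, 3, 4, 5, 6, 9, 5, 3, 4, 2, 3, 7, 8, 3, 7, 2, 3, 4, 1, 2, 3, 7, 2, 3, 4, 5, 6, 4, 3, 10, 3, 4,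 2, 3, 7, 1, 2, 3, 4, 0, 1, 2, 3, 7, 8, 7, 3, 4, 2, 3, 7, 5, 4, 3, 2, 1, 0]) (m := [3, 7, 1, 2, 3, 4, 5, 6, 9, 4, 3, 7, 8, 4, 5, 2, 3, 4, 1, 2, 3, 7, 1, 2, 3, 4, 5, 6, 4, 2, 3]) (u := [0, 1, 2, 3, 7, 8, 4, 3, 7, 5, 4, 3, 2, 1, 0]) (u2 := [10, 3, 4, 2, 3, 7, 1, 2, 3, 4, 0, 1, 2, 3, 7, 8, 7, 3, 4, 2, 3, 7, 5, 4, 3, 2, 1, 0])
    (rep2 := [11])
    ((vleft8 hL).pre [10, 3, 4, 5, 6, 9, 3, 7, 8, 3, 2, 1, 0]) (by decide +kernel) (by decide +kernel) hL.id7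

theorem vleftEnd : SameV v ([10, 3, 4, 5, 6, 9, 3, 7, 8, 3, 2, 1, 0, 3, 7, 1, 2, 3, 4, 5, 6, 9, 4, 3, 7, 8, 4, 5, 2, 3, 4, 1, 2, 3, 7, 1, 2, 3, 4, 5, 6, 4, 2, 3, 10, 3, 4, 2, 3, 7, 1, 2, 3, 4, 0, 1, 2, 3, 7, 8, 7, 3, 4, 2, 3, 7, 5, 4, 3, 2, 1, 0] ++ [11]) [10, 3, 4, 5, 6, 9, 3, 7, 8, 3, 2, 1, 0, 11, 10, 3, 4, 5, 6, 9, 3, 7, 8, 3, 2, 1, 0, 11, 10, 3, 4, 5, 6, 9, 3, 7, 8, 3, 2, 1, 0, 11, 10, 3, 4, 5, 6, 9, 3, 7, 8, 3, 2, 1, 0, 11, 10, 3, 4, 5, 6, 9, 3, 7, 8, 3, 2, 1, 0, 11, 10, 3, 4, 5, 6, 9, 3, 7, 8, 3, 2, 1, 0, 11, 10, 3, 4, 5, 6, 9, 3, 7, 8, 3, 2, 1, 0, 11, 10, 3, 4, 5, 6, 9, 3, 7, 8, 3, 2, 1, 0, 11, 10, 3, 4, 5, 6, 9, 3, 7, 8, 3, 2, 1, 0, 11, 10, 3, 4, 5, 6, 9, 3, 7, 8, 3, 2,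 1, 0, 11, 10, 3, 4, 5, 6, 9, 3, 7, 8, 3, 2, 1, 0] :=
  (vleft9 hL).pre [10, 3, 4, 5, 6, 9, 3, 7, 8, 3, 2, 1, 0]

end CfsgLib.AutLf48.Relator
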